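import Groth.Prelude.Def_Formal2
import Mathlib.CategoryTheory.Functor.OfSequence
import Mathlib.CategoryTheory.CofilteredSystem

/-!
Towers of abelian groups: backwards solutions of `x n - t (x (n + 1)) = g n`.
-/

set_option autoImplicit false

universe u

namespace Groth.Agent.Tower27

variable {G : ℕ → Type u} [∀ n, AddCommGroup (G n)] (t : ∀ n, G (n + 1) →+ G n)

/-- `x` is compatible on the range `[i, j)`. -/
def CompOn (i j : ℕ) (x : ∀ n, G n) : Prop :=
  ∀ n, i ≤ n → n < j → x n = t n (x (n + 1))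

/-- The solution of `d` steps. -/
def back (g : ∀ n, G n) : ℕ → ∀ n, G n
  | 0, _ => 0
  | d + 1, n => g n + t n (back g d (n + 1))

/-- The solution vanishing from `j` on. -/
def sol (g : ∀ n, G n) (j n : ℕ) : G n := back t g (j - n) n

theorem sol_eq (g : ∀ n, G n) {j n : ℕ} (h : n < j) : sol t g j n = g n + t n (sol t g j (n + 1)) := by
  rw [sol, sol, show j - n = j - (n + 1) + 1 by omega]
  rfl

theorem compOn_sol_sub (g : ∀ n, G n) {i j a b : ℕ} (ha : j ≤ a) (hb : j ≤ b) :
    CompOn t i j fun n => sol t g a n - sol t g b n := fun n _ hn => by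
  show sol t g a n - sol t g b n = t n (sol t g a (n + 1) - sol t g b (n + 1))
  rw [sol_eq t g (by omega : n < a), sol_eq t g (by omega : n < b), map_sub, add_sub_add_left_eq_sub]

/-- Vanishing lim and lim¹ for essentially zero towers. -/
theorem essZero (h : ∀ i : ℕ, ∃ j : ℕ, i ≤ j ∧ ∀ x : ∀ n, G n, CompOn t i j x → x i = 0) :
    Formal2.limZero G t = ⊥ ∧ Function.Surjective (Formal2.towerDiff G t) := by
  choose J _ hJ using h
  refine ⟨eq_bot_iff.mpr fun x hx => ?_, fun g => ⟨fun i => sol t g (J i) i, funext fun i => ?_⟩⟩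
  · rw [AddSubgroup.mem_bot]
    funext i
    refine hJ i x fun n _ _ => sub_eq_zero.mp ?_
    exact congrFun hx n
  · have key : ∀ k M, J k ≤ M → sol t g (J k) k = sol t g M k := fun k M hM => sub_eq_zero.mp
      (hJ k (fun n => sol t g (J k) n - sol t g M n) (compOn_sol_sub t g le_rfl hM))
    change sol t g (J i) i - t i (sol t g (J (i + 1)) (i + 1)) = g i
    let M := max (J i) (max (J (i + 1)) (i + 1))
    rw [key i M (le_max_left _ _), key (i + 1) M ((le_max_left _ _).trans (le_max_right _ _)),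
      sol_eq t g (lt_of_lt_of_le (Nat.lt_succ_self i) ((le_max_right _ _).trans (le_max_right _ _)) : i < M),
      add_sub_cancel_right]

/-- Vanishing lim¹ for Mittag-Leffler towers. -/
theorem surjective_of_ml (J : ℕ → ℕ)
    (h : ∀ i j, J i ≤ j → ∀ x : ∀ n, G n, CompOn t i (J i) x →
      ∃ y : ∀ n, G n, CompOn t i j y ∧ y i = x i) :
    Function.Surjective (Formal2.towerDiff G t) := by
  classical
  intro g
  -- `E i` is the stable image
  let E : ∀ i, G i → Prop := fun i a => ∀ j, ∃ x : ∀ n, G n, CompOn t i j x ∧ x i = a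
  have hE : ∀ i (x : ∀ n, G n), CompOn t i (J i) x → E i (x i) := by
    intro i x hx j
    by_cases hj : J i ≤ j
    · exact h i j hj x hx
    · exact ⟨x, fun n h1 h2 => hx n h1 (by omega), rfl⟩
  have hEneg : ∀ i a, E i a → E i (-a) := fun i a ha j => by
    obtain ⟨x, hx, hxa⟩ := ha j
    exact ⟨-x, fun n h1 h2 => by simp [hx n h1 h2], by simp [hxa]⟩
  have hEadd : ∀ i a b, E i a → E i b → E i (a + b) := fun i a b ha hb j => by
    obtain ⟨x, hx, hxa⟩ := ha j
    obtain ⟨y, hy, hyb⟩ := hb j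
    exact ⟨x + y, fun n h1 h2 => by simp [hx n h1 h2, hy n h1 h2], by simp [hxa, hyb]⟩
  have hEsub : ∀ i a b, E i a → E i b → E i (a - b) := fun i a b ha hb =>
    sub_eq_add_neg a b ▸ hEadd i a _ ha (hEneg i b hb)
  have hEdown : ∀ i b, E (i + 1) b → E i (t i b) := fun i b hb j => by
    obtain ⟨x, hx, rfl⟩ := hb j
    refine ⟨Function.update x i (t i (x (i + 1))), fun n h1 h2 => ?_, Function.update_self ..⟩
    rw [Function.update_of_ne (show n + 1 ≠ i by omega)]
    rcases eq_or_lt_of_le h1 with rfl | hlt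
    · rw [Function.update_self]
    · rw [Function.update_of_ne (show n ≠ i by omega), hx n hlt h2]
  have hEup : ∀ i a, E i a → ∃ b, E (i + 1) b ∧ t i b = a := fun i a ha => by
    obtain ⟨x, hx, rfl⟩ := ha (max (J (i + 1)) (i + 1))
    exact ⟨x (i + 1), hE (i + 1) x fun n h1 h2 => hx n (by omega) (lt_of_lt_of_le h2 (le_max_left _ _)),
      (hx i le_rfl (lt_of_lt_of_le (Nat.lt_succ_self i) (le_max_right _ _))).symm⟩
  let z : ∀ n, G n := fun i => sol t g (J i) i
  have he : ∀ i, E i (g i - (z i - t i (z (i + 1)))) := fun i => by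
    let M := max (J i) (max (J (i + 1)) (i + 1))
    have h1 := hE i _ (compOn_sol_sub (i := i) t g (le_max_left _ _ : J i ≤ M) le_rfl)
    have h2 := hE (i + 1) _ (compOn_sol_sub (i := i + 1) t g
      ((le_max_left _ _).trans (le_max_right _ _) : J (i + 1) ≤ M) le_rfl)
    have h3 := hEsub i _ _ h1 (hEdown i _ h2)
    rw [map_sub, sol_eq t g (lt_of_lt_of_le (Nat.lt_succ_self i)
      ((le_max_right _ _).trans (le_max_right _ _)) : i < M)] at h3
    convert h3 using 1
    simp only [z]
    abel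
  have hstep : ∀ i, ∀ w : {a // E i a}, ∃ b : {b // E (i + 1) b},
      (w : G i) - t i b = g i - (z i - t i (z (i + 1))) := fun i w => by
    obtain ⟨b, hb, hbw⟩ := hEup i _ (hEsub i _ _ w.2 (he i))
    exact ⟨⟨b, hb⟩, by rw [hbw, sub_sub_cancel]⟩
  choose step hstep using hstep
  let w : ∀ n, {a // E n a} := fun n => Nat.rec (motive := fun n => {a // E n a})
    ⟨0, fun j => ⟨0, fun n _ _ => by simp, rfl⟩⟩ (fun i p => step i p) n
  refine ⟨fun n => z n + (w n).1, funext fun i => ?_⟩
  change z i + (w i).1 - t i (z (i + 1) + (step i (w i)).1) = g i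
  rw [map_add, add_sub_add_comm, hstep, add_sub_cancel]

open CategoryTheory

/-- The functorial Mittag-Leffler condition on elements. -/
theorem exists_stable_of_isMittagLeffler
    (h : (Functor.ofOpSequence (X := fun n => AddCommGrpCat.of (G n))
      (fun n => AddCommGrpCat.ofHom (t n)) ⋙ forget AddCommGrpCat).IsMittagLeffler) :
    ∃ J : ℕ → ℕ, ∀ i j, J i ≤ j → ∀ x : ∀ n, G n, CompOn t i (J i) x →
      ∃ y : ∀ n, G n, CompOn t i j y ∧ y i = x i := by
  classical
  let F := Functor.ofOpSequence (X := fun n => AddCommGrpCat.of (G n)) (fun n => AddCommGrpCat.ofHom (t n))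
  let T : ∀ {a b : ℕ}, a ≤ b → G b → G a := fun {a b} hab y => (F.map (homOfLE hab).op).hom y
  have hsucc : ∀ n y, T (Nat.le_succ n) y = t n y := fun n y => by
    change (F.map (homOfLE (Nat.le_add_right n 1)).op).hom y = _
    rw [Functor.ofOpSequence_map_homOfLE_succ]
    rfl
  have hcomp : ∀ {a b c : ℕ} (hab : a ≤ b) (hbc : b ≤ c) y, T (hab.trans hbc) y = T hab (T hbc y) :=
    fun {a b c} hab hbc y => by
      change (F.map (homOfLE (hab.trans hbc)).op).hom y = (F.map _).hom ((F.map _).hom y)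
      rw [← AddCommGrpCat.comp_apply, ← F.map_comp]
      rfl
  have hid : ∀ a y, T (le_refl a) y = y := fun a y => by
    change (F.map (homOfLE (le_refl a)).op).hom y = y
    rw [show (homOfLE (le_refl a)).op = 𝟙 _ from rfl, F.map_id]
    rfl
  have hmem : ∀ {i j : ℕ} (hij : i ≤ j) (x : ∀ n, G n), CompOn t i j x → T hij (x j) = x i := by
    intro i j hij
    induction j, hij using Nat.le_induction with
    | base => exact fun x _ => hid i (x i)
    | succ j hij ih =>
      intro x hx
      rw [hcomp hij (Nat.le_succ j), hsucc, ← hx j hij (Nat.lt_succ_self j)]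
      exact ih x fun n h1 h2 => hx n h1 (by omega)
  have key : ∀ i : ℕ, ∃ J₀ : ℕ, ∃ hiJ : i ≤ J₀, ∀ k (hik : i ≤ k) (a : G J₀), ∃ b, T hik b = T hiJ a := by
    intro i
    obtain ⟨⟨J₀⟩, f, hf⟩ := h (Opposite.op i)
    refine ⟨J₀, leOfHom f.unop, fun k hik a => ?_⟩
    obtain ⟨b, hb⟩ := hf (k := Opposite.op k) (homOfLE hik).op ⟨a, rfl⟩
    exact ⟨b, hb⟩
  choose J hiJ hJ using key
  refine ⟨J, fun i j hij x hx => ?_⟩
  obtain ⟨b, hb⟩ := hJ i j ((hiJ i).trans hij) (x (J i))
  refine ⟨fun n => if hn : n ≤ j then T hn b else 0, fun n _ h2 => ?_, ?_⟩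
  · simp only
    rw [dif_pos h2.le, dif_pos (Nat.succ_le_of_lt h2), ← hsucc, ← hcomp]
  · simp only
    rw [dif_pos ((hiJ i).trans hij), hb]
    exact hmem (hiJ i) x hx

end Groth.Agent.Tower27
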